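import Cfsg.Agent.H932.TW.RowB
import Cfsg.Agent.H554.TW.HC1

/-!
# The row `³D₄(q)`, `q ≥ 4`, of S2452
-/

set_option autoImplicit false

namespace Cfsg.Agent.H932.TW.Row4

open Cfsg Cfsg.Lie Cfsg.Agent.ChevalleyStructure Cfsg.Agent.Nodes.RGDTwD4 Cfsg.Agent.Nodes.Bruhat

/-- **`³D₄(q)`, `q ≥ 4`.** -/
theorem t52_td4 {K : Type} [Field K] [Fintype K] {q : ℕ} (hq : IsPrimePow q) (hK : Fintype.card K = q ^ 3)
    (hq3 : 3 < q) : H588.TW.T52 ↥(twistedD4 K q) := by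
  classical
  obtain ⟨φ, hφ⟩ := D4Fixed.exists_frob hq hK
  obtain ⟨p, hpc⟩ := CharP.exists K
  have : Fact p.Prime := ⟨(CharP.char_is_prime_or_zero K p).resolve_right (CharP.char_ne_zero_of_finite K p)⟩
  have hfin := Cfsg.Agent.H874.War.TwD4.finite_tw K q
  let _ : Fintype ↥(twistedD4 K q) := Fintype.ofFinite _
  have R := rgd CoxeterMatrix.G₂.toCoxeterSystem hK hφ p
  have : Finite CoxeterMatrix.G₂.Group := Cfsg.Agent.Nodes.RGDFold.finite_W (hp := hp)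
    CoxeterMatrix.G₂.toCoxeterSystem isCartan foldData
  have hGG : GG CoxeterMatrix.G₂.toCoxeterSystem isCartan (T K q) (X φ q) = ⊤ := by
    rw [eq_top_iff, ← G1_eq_top CoxeterMatrix.G₂.toCoxeterSystem hK hφ]
    exact le_sup_right
  exact RowB.row_pre hq hK hφ hq3 (p := p) fun i y hy hf hn χ hχ h0 =>
    Cfsg.Agent.H554.TW.val_y R hGG hχ h0 hy hf hn

theorem t52_td4_iso {S : Type*} [Group S] {K : Type} [Field K] [Fintype K] {q : ℕ} (hq : IsPrimePow q)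
    (hK : Fintype.card K = q ^ 3) (hq3 : 3 < q) (e : S ≃* ↥(twistedD4 K q)) : H588.TW.T52 S :=
  H588.TW.T52.of_equiv e (t52_td4 hq hK hq3)

end Cfsg.Agent.H932.TW.Row4
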