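import Cfsg.Agent.H932.TC6.BaseD4

/-!
Elements `z s` of the Levi subgroup of the short node of `³D₄(q)` (S2452): `z` central in the Levi subgroup, `z² ≠ 1`,
`s` in `SL₂(q³)`, of coprime orders: no fixed points on the unipotent radicals.
-/

set_option autoImplicit false
set_option linter.unusedSectionVars false

namespace Cfsg.Agent.H932.TW.NFs

open CoxeterSystem Cfsg.Agent.ChevalleyStructure.CoxeterGeom Cfsg.Agent.Tits.Roots Cfsg.Agent.Tits.Core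
  Cfsg.Agent.Nodes Cfsg.Agent.Nodes.Reps Cfsg.Agent.Nodes.BNOf Cfsg.Agent.Nodes.RGDLib Cfsg.Agent.Nodes.Bruhat
  Cfsg.Agent.Nodes.OppDec Cfsg.Agent.Nodes.LeviDec Cfsg.Agent.Nodes.StabComb Cfsg.Agent.Nodes.KindChev
  Cfsg.Agent.Nodes.ChevCls
  Cfsg.Agent.OddHalf.NI.ModelChev
  Cfsg.Agent.H162.GaussDec Cfsg.Agent.H162.GaussLevi
  Cfsg.Agent.H928.Ore.Frame Cfsg.Agent.H928.Ore.Fix
open Cfsg.Lie Cfsg.Agent.ChevalleyStructure Cfsg.Agent.ChevalleyStructure.Elts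
  Cfsg.Agent.ChevalleyStructure.NPerm
  Cfsg.Agent.ChevalleyStructure.CoxeterGeomTypes Cfsg.Agent.Nodes.RGDChev Cfsg.Agent.KFacts.RgdChevCoord
open Cfsg.Agent.Nodes.RGDTwGen Cfsg.Agent.Nodes.RGDFold Cfsg.Agent.Nodes.RGDTwD4
open Cfsg.Agent.Nodes.RGDFoldSL (Fx mem_Fx)
open Cfsg.Agent.ChevalleyStructure.TwistedU Cfsg.Agent.ChevalleyStructure.TwistedFix
open Cfsg.Agent.ChevalleyStructure.SL2Hom (up lo mem_closure_SL2)
open Cfsg.Agent.Nodes.RGDTwCoord (hI wt hI_conj)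
open Cfsg.Agent.Nodes.RGDTwNode.D4 (nodeOK eps_one rest)
open Cfsg.Agent.OddHalf.NI
open Cfsg.Agent.H874.War.TwD4 Cfsg.Agent.H932.TC6.BaseD4
open scoped MatrixGroups

universe u

/-! ### Tables -/

theorem tabJ1 : ∀ r < chevD4.nroots, (∀ k : Fin 2, 0 ≤ V chevD4 J r k) → (∃ k : Fin 2, k ≠ 1 ∧ 0 < V chevD4 J r k) →
    (∀ k : Fin 4, 0 ≤ vec chevD4 4 r k) ∧ ∃ k : Fin 4, (k ≠ 0 ∧ k ≠ 2 ∧ k ≠ 3) ∧ 0 < vec chevD4 4 r k := by
  have h : ∀ r : Fin 24, (∀ k : Fin 2, 0 ≤ V chevD4 J r k) → (∃ k : Fin 2, k ≠ 1 ∧ 0 < V chevD4 J r k) →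
    (∀ k : Fin 4, 0 ≤ vec chevD4 4 r k) ∧ ∃ k : Fin 4, (k ≠ 0 ∧ k ≠ 2 ∧ k ≠ 3) ∧ 0 < vec chevD4 4 r k := by decide +kernel
  exact fun r hr => h ⟨r, hr⟩

theorem tabJN1 : ∀ r < chevD4.nroots, (∀ k : Fin 2, V chevD4 J r k ≤ 0) → (∃ k : Fin 2, k ≠ 1 ∧ V chevD4 J r k < 0) →
    (∀ k : Fin 4, vec chevD4 4 r k ≤ 0) ∧ ∃ k : Fin 4, (k ≠ 0 ∧ k ≠ 2 ∧ k ≠ 3) ∧ vec chevD4 4 r k < 0 := by
  have h : ∀ r : Fin 24, (∀ k : Fin 2, V chevD4 J r k ≤ 0) → (∃ k : Fin 2, k ≠ 1 ∧ V chevD4 J r k < 0) →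
    (∀ k : Fin 4, vec chevD4 4 r k ≤ 0) ∧ ∃ k : Fin 4, (k ≠ 0 ∧ k ≠ 2 ∧ k ≠ 3) ∧ vec chevD4 4 r k < 0 := by decide +kernel
  exact fun r hr => h ⟨r, hr⟩

/-- the exponent of the central element -/
theorem tabM : ∀ r < chevD4.nroots,
    2 * chevD4.cartan 1 r + chevD4.cartan 0 r + chevD4.cartan 2 r + chevD4.cartan 3 r = vec chevD4 4 r 1 ∧
      (vec chevD4 4 r 1 ≠ 0 → vec chevD4 4 r 1 = 1 ∨ vec chevD4 4 r 1 = -1 ∨ vec chevD4 4 r 1 = 2 ∨
        vec chevD4 4 r 1 = -2) := by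
  have h : ∀ r : Fin 24,
    2 * chevD4.cartan 1 r + chevD4.cartan 0 r + chevD4.cartan 2 r + chevD4.cartan 3 r = vec chevD4 4 r 1 ∧
      (vec chevD4 4 r 1 ≠ 0 → vec chevD4 4 r 1 = 1 ∨ vec chevD4 4 r 1 = -1 ∨ vec chevD4 4 r 1 = 2 ∨
        vec chevD4 4 r 1 = -2) := by decide +kernel
  exact fun r hr => h ⟨r, hr⟩

theorem tabV : ∀ r < chevD4.nroots, V chevD4 J r 0 = 0 → vec chevD4 4 r 1 = 0 := by
  have h : ∀ r : Fin 24, V chevD4 J r 0 = 0 → vec chevD4 4 r 1 = 0 := by decide +kernel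
  exact fun r hr => h ⟨r, hr⟩

section

variable {W : Type*} [Group W] (cs : CoxeterSystem CoxeterMatrix.G₂ W) {K : Type u} [Field K]

theorem VJ_le1 (φ : K →+* K) (q : ℕ) : VJ cs RGDTwD4.isCartan (X φ q) {1} ≤
    (VJ coxeterD4.toCoxeterSystem RGDTwD4.hp.isCartan (XX chevD4 4 K) {0, 2, 3}).comap (inc K q) := by
  refine RGD.Sup_le fun z hz => X_le fun r hr hrz => ?_
  obtain ⟨-, h0, k, hk, hk0⟩ := hz
  obtain ⟨h1, k', h2, h3⟩ := tabJ1 r hr (fun k => by rw [hrz]; exact h0 k) ⟨k, hk, by rw [hrz]; exact hk0⟩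
  exact RGD.le_Sup ⟨isRoot_vec RGDTwD4.hp _ hr, fun k => h1 k, k', by
    rintro (h | h | h)
    exacts [h2.1 h, h2.2.1 h, h2.2.2 h], h3⟩

theorem VNJ_le1 (φ : K →+* K) (q : ℕ) : VNJ cs RGDTwD4.isCartan (X φ q) {1} ≤
    (VNJ coxeterD4.toCoxeterSystem RGDTwD4.hp.isCartan (XX chevD4 4 K) {0, 2, 3}).comap (inc K q) := by
  refine RGD.Sup_le fun z hz => X_le fun r hr hrz => ?_
  obtain ⟨-, h0, k, hk, hk0⟩ := hz
  obtain ⟨h1, k', h2, h3⟩ := tabJN1 r hr (fun k => by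
      have := h0 k
      rw [hrz]
      simpa using this)
    ⟨k, hk, by rw [hrz]; simpa using hk0⟩
  refine RGD.le_Sup ⟨(isRoot_vec RGDTwD4.hp _ hr).neg, fun k => ?_, k', by
    rintro (h | h | h)
    exacts [h2.1 h, h2.2.1 h, h2.2.2 h], ?_⟩
  · have := h1 k
    simpa using this
  · simpa using h3

end

section

variable {K : Type u} [Field K] [Fintype K] {φ : K →+* K} {q : ℕ} (hK : Fintype.card K = q ^ 3)
  (hφ : ∀ x, φ x = x ^ q)

theorem inc_tt_mem (a : (Fx φ ((rest 0).length + 1))ˣ) (b : (Fx φ ((rest 1).length + 1))ˣ) :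
    inc K q (tt hK hφ a b) ∈ TT chevD4 K :=
  Subgroup.mem_subgroupOf.2 (Subgroup.mem_subgroupOf.1 (tt_mem hK hφ a b)).1

/-- the scalars of the central element -/
theorem ch_zc {a : (Fx φ ((rest 0).length + 1))ˣ} {b : (Fx φ ((rest 1).length + 1))ˣ} {c : K} (hc0 : c ≠ 0)
    (hc : φ c = c) (ha : ((a : Fx φ ((rest 0).length + 1)) : K) = c ^ 2)
    (hb : ((b : Fx φ ((rest 1).length + 1)) : K) = c) {r : ℕ} (hr : r < chevD4.nroots) :
    ch RGDTwD4.hp (vec chevD4 4 r) (inc K q (tt hK hφ a b)) = c ^ vec chevD4 4 r 1 := by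
  apply ch_eq RGDTwD4.hp hr (inc_tt_mem hK hφ a b)
  have h1 := conj_tt hK hφ a b hr 1
  rw [mul_one] at h1
  rw [h1, ha, hb, ← (tabM r hr).1]
  congr 1
  show ((c ^ 2) ^ chevD4.cartan 1 r * 1) * (c ^ chevD4.cartan 0 r * ((φ c) ^ chevD4.cartan 2 r *
      ((φ (φ c)) ^ chevD4.cartan 3 r * 1))) = _
  rw [hc, hc, zpow_add₀ hc0, zpow_add₀ hc0, zpow_add₀ hc0, zpow_mul, zpow_ofNat]
  ring

/-- it is central in the `SL₂` of the short node -/
theorem commute_zc {a : (Fx φ ((rest 0).length + 1))ˣ} {b : (Fx φ ((rest 1).length + 1))ˣ} {c : K} (hc0 : c ≠ 0)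
    (hc : φ c = c) (ha : ((a : Fx φ ((rest 0).length + 1)) : K) = c ^ 2)
    (hb : ((b : Fx φ ((rest 1).length + 1)) : K) = c) (s : SL(2, Fx φ ((rest 1).length + 1))) :
    Commute (tt hK hφ a b) (P hK hφ 1 s) := by
  have C := coordP hK hφ
  have key : ∀ z : Fin 2 → ℤ, z 0 = 0 → X φ q z ≤ Subgroup.centralizer {tt hK hφ a b} := by
    intro z hz
    have h1 : X φ q z ≤ (Subgroup.centralizer {inc K q (tt hK hφ a b)}).comap (inc K q) := by
      refine X_le fun r hr hrz => ?_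
      intro x hx
      obtain ⟨t, rfl⟩ := (mem_XX RGDTwD4.hp hr x).1 hx
      rw [Subgroup.mem_centralizer_singleton_iff]
      have h3 := (act RGDTwD4.hp hr (inc_tt_mem hK hφ a b)).2 t
      have h4 : vec chevD4 4 r 1 = 0 := tabV r hr (by rw [hrz]; exact hz)
      rw [ch_zc hK hφ hc0 hc ha hb hr, h4, zpow_zero, one_mul] at h3
      exact (mul_inv_eq_iff_eq_mul.1 h3).symm
    intro x hx
    have h2 := Subgroup.mem_centralizer_singleton_iff.1 (h1 hx)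
    rw [Subgroup.mem_centralizer_singleton_iff]
    apply inc_injective q
    rw [map_mul, map_mul]
    exact h2
  have : Subgroup.closure (Set.range (up (F := Fx φ ((rest 1).length + 1))) ∪
      Set.range (lo (F := Fx φ ((rest 1).length + 1)))) ≤
      (Subgroup.centralizer {tt hK hφ a b}).comap (P hK hφ 1) := by
    rw [Subgroup.closure_le]
    have h0 : (sr (1 : Fin 2)) 0 = 0 := sr_ne (by decide)
    rintro _ (⟨t, rfl⟩ | ⟨t, rfl⟩)
    · exact key _ h0 (C.mem_up 1 t)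
    · exact key _ (by rw [Pi.neg_apply, h0, neg_zero]) (C.mem_lo 1 t)
  exact (Subgroup.mem_centralizer_singleton_iff.1 (this (mem_closure_SL2 s))).symm

/-- the central element has no fixed points -/
theorem nf_zc {W : Type*} [Group W] (cs : CoxeterSystem CoxeterMatrix.G₂ W)
    {a : (Fx φ ((rest 0).length + 1))ˣ} {b : (Fx φ ((rest 1).length + 1))ˣ} {c : K} (hc0 : c ≠ 0)
    (hc : φ c = c) (ha : ((a : Fx φ ((rest 0).length + 1)) : K) = c ^ 2)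
    (hb : ((b : Fx φ ((rest 1).length + 1)) : K) = c) (hc2 : c ^ 2 ≠ 1) :
    NF (VNJ cs RGDTwD4.isCartan (X φ q) {1}) (tt hK hφ a b) ∧
      NF (VJ cs RGDTwD4.isCartan (X φ q) {1}) (tt hK hφ a b) := by
  obtain ⟨p, hpc⟩ := CharP.exists K
  have : Fact p.Prime := ⟨(CharP.char_is_prime_or_zero K p).resolve_right (CharP.char_ne_zero_of_finite K p)⟩
  have R := RGDChev.rgd (K := K) RGDTwD4.hp coxeterD4.toCoxeterSystem p
  have hm := inc_tt_mem hK hφ a b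
  have hc1 : c ≠ 1 := fun h => hc2 (by rw [h, one_pow])
  have hf : NoFix coxeterD4.toCoxeterSystem RGDTwD4.hp.isCartan (XX chevD4 4 K) {0, 2, 3}
      (inc K q (tt hK hφ a b)) := by
    refine noFix_ch RGDTwD4.hp hm fun r hr hk => ?_
    rw [ch_zc hK hφ hc0 hc ha hb hr]
    obtain ⟨k, hk1, hk2⟩ := hk
    have hk3 : k = 1 := by
      fin_cases k
      · exact absurd (Or.inl rfl) hk1
      · rfl
      · exact absurd (Or.inr (Or.inl rfl)) hk1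
      · exact absurd (Or.inr (Or.inr rfl)) hk1
    rw [hk3] at hk2
    rcases (tabM r hr).2 hk2 with h | h | h | h
    · rw [h, zpow_one]; exact hc1
    · rw [h, zpow_neg_one]; exact fun h => hc1 (inv_eq_one.1 h)
    · rw [h]; exact_mod_cast hc2
    · rw [h, zpow_neg]
      intro h
      exact hc2 (by exact_mod_cast inv_eq_one.1 h)
  have := Cfsg.Agent.Nodes.RGDChev.finite_W RGDTwD4.hp coxeterD4.toCoxeterSystem
  constructor
  · refine NF.of_hom _ (inc_injective q) (VNJ_le1 cs φ q) ?_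
    exact fun x hx h5 => fix_VNJ R hm hf hx h5
  · refine NF.of_hom _ (inc_injective q) (VJ_le1 cs φ q) ?_
    exact fun x hx h5 => fix_VJ R hm hf hx h5

theorem NF_of_pow {Y : Type*} [Group Y] {V : Subgroup Y} {y : Y} {k : ℕ} (h : NF V (y ^ k)) : NF V y := by
  intro x hx e
  apply h x hx
  have h1 : Commute y x := mul_inv_eq_iff_eq_mul.1 e
  exact mul_inv_eq_iff_eq_mul.2 (h1.pow_left k).eq

/-- **No fixed points.** -/
theorem nf {W : Type*} [Group W] (cs : CoxeterSystem CoxeterMatrix.G₂ W)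
    {a : (Fx φ ((rest 0).length + 1))ˣ} {b : (Fx φ ((rest 1).length + 1))ˣ} {c : K} (hc0 : c ≠ 0)
    (hc : φ c = c) (ha : ((a : Fx φ ((rest 0).length + 1)) : K) = c ^ 2)
    (hb : ((b : Fx φ ((rest 1).length + 1)) : K) = c) {r : ℕ} (hc2 : (c ^ r) ^ 2 ≠ 1)
    {s : SL(2, Fx φ ((rest 1).length + 1))} (hs : s ^ r = 1) :
    NF (VNJ cs RGDTwD4.isCartan (X φ q) {1}) (tt hK hφ a b * P hK hφ 1 s) ∧
      NF (VJ cs RGDTwD4.isCartan (X φ q) {1}) (tt hK hφ a b * P hK hφ 1 s) := by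
  have e1 : (tt hK hφ a b * P hK hφ 1 s) ^ r = tt hK hφ (a ^ r) (b ^ r) := by
    rw [(commute_zc hK hφ hc0 hc ha hb s).mul_pow, tt_pow, ← map_pow, hs, map_one, mul_one]
  have h := nf_zc hK hφ cs (a := a ^ r) (b := b ^ r) (c := c ^ r) (pow_ne_zero _ hc0) (by rw [map_pow, hc])
    (by rw [Units.val_pow_eq_pow_val, SubmonoidClass.coe_pow, ha, ← pow_mul, ← pow_mul, mul_comm])
    (by rw [Units.val_pow_eq_pow_val, SubmonoidClass.coe_pow, hb]) hc2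
  exact ⟨NF_of_pow (by rw [e1]; exact h.1), NF_of_pow (by rw [e1]; exact h.2)⟩

end

end Cfsg.Agent.H932.TW.NFs
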