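import Cfsg.Agent.H932.TC6.TwD4
import Cfsg.Agent.H932.TW.NFs
import Cfsg.Agent.ChevalleyStructure.D4H1

/-!
The element `y` of a Levi subgroup of `³D₄(q)` (S2452): order `r₁ r₂`, no fixed points on the unipotent radical, not
conjugate to an element of `B`.
-/

set_option autoImplicit false
set_option linter.unusedSectionVars false

namespace Cfsg.Agent.H932.TW.ExY

open CoxeterSystem Cfsg.Agent.ChevalleyStructure.CoxeterGeom Cfsg.Agent.Tits.Roots Cfsg.Agent.Tits.Core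
  Cfsg.Agent.Nodes Cfsg.Agent.Nodes.Reps Cfsg.Agent.Nodes.BNOf Cfsg.Agent.Nodes.RGDLib Cfsg.Agent.Nodes.Bruhat
  Cfsg.Agent.Nodes.OppDec Cfsg.Agent.Nodes.LeviDec Cfsg.Agent.Nodes.StabComb Cfsg.Agent.Nodes.KindChev
  Cfsg.Agent.Nodes.ChevCls
  Cfsg.Agent.OddHalf.NI.ModelChev
  Cfsg.Agent.H162.GaussDec Cfsg.Agent.H162.GaussLevi
  Cfsg.Agent.H928.Ore.Frame Cfsg.Agent.H928.Ore.Fix
open Cfsg.Lie Cfsg.Agent.ChevalleyStructure Cfsg.Agent.ChevalleyStructure.Elts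
  Cfsg.Agent.ChevalleyStructure.NPerm
  Cfsg.Agent.ChevalleyStructure.CoxeterGeomTypes Cfsg.Agent.Nodes.RGDChev Cfsg.Agent.KFacts.RgdChevCoord
open Cfsg.Agent.Nodes.RGDTwGen Cfsg.Agent.Nodes.RGDFold Cfsg.Agent.Nodes.RGDTwD4
open Cfsg.Agent.Nodes.RGDFoldSL (Fx mem_Fx)
open Cfsg.Agent.ChevalleyStructure.TwistedU Cfsg.Agent.ChevalleyStructure.TwistedFix
open Cfsg.Agent.Nodes.RGDTwNode.D4 (nodeOK eps_one rest)
open Cfsg.Agent.Ree.PSLTori (tr)
open Cfsg.Agent.OddHalf.NI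
open Cfsg.Agent.H874.War.TwD4 Cfsg.Agent.H932.TC6.BaseD4 Cfsg.Agent.H932.TC6.NFz Cfsg.Agent.H932.TC6.Tor
  Cfsg.Agent.H932.TC6.TwD4
open scoped MatrixGroups

universe u

/-! ### The kernel of the `SL₂` -/

section

variable {I W Y : Type*} [Fintype I] [DecidableEq I] [Group W] [Finite W] [Group Y] {M : CoxeterMatrix I}
  {cs : CoxeterSystem M W} {A : I → I → ℤ} {h : IsCartan M A} {p : ℕ} {T : Subgroup Y} {n : I → Y}
  {X : (I → ℤ) → Subgroup Y} {F : I → Type*} [∀ i, Field (F i)] {s : ∀ i, SL(2, F i) →* Y}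

/-- an element of trace `τ`, `τ² ≠ 4`, is not in the kernel -/
theorem s_ne_one [∀ i, Finite (F i)] (R : RGD cs h p T n X) (C : Mult.Coord X F s) (i : I) {g : SL(2, F i)}
    (hg : tr g ^ 2 ≠ 4) : s i g ≠ 1 := by
  intro h1
  let _ : Fintype (F i) := Fintype.ofFinite _
  apply R.not_neg_le_B i
  intro x hx
  obtain ⟨u, rfl⟩ := C.exists_lo hx
  by_cases hu : u = 0
  · rw [hu]
    have : (Mult.lo (0 : F i) : SL(2, F i)) = 1 := by
      apply Subtype.ext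
      show !![(1 : F i), 0; 0, 1] = 1
      rw [Matrix.one_fin_two]
    rw [this, map_one]
    exact one_mem _
  · obtain ⟨m, hm⟩ : ∃ m : SL(2, F i), m.1 = !![0, -u⁻¹; u, tr g] :=
      ⟨⟨!![0, -u⁻¹; u, tr g], by rw [Matrix.det_fin_two_of]; field_simp; ring⟩, rfl⟩
    have htm : tr m = tr g := by
      show m.1 0 0 + m.1 1 1 = _
      rw [hm]
      simp
    have hc : IsConj g m := Cfsg.Agent.H118.O8S.exists_conj _ _ hg htm.symm
    obtain ⟨k, hk⟩ := isConj_iff.1 hc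
    have h2 : s i m = 1 := by rw [← hk, map_mul, map_mul, h1, mul_one, map_inv, mul_inv_cancel]
    have h3 : m = Mult.up (-u⁻¹) * Mult.lo u * Mult.up (-u⁻¹ + tr g * u⁻¹) := by
      apply Subtype.ext
      rw [hm]
      show _ = (!![1, -u⁻¹; 0, 1] * !![1, 0; u, 1] * !![1, -u⁻¹ + tr g * u⁻¹; 0, 1] : Matrix (Fin 2) (Fin 2) (F i))
      ext a b
      fin_cases a <;> fin_cases b <;> simp [Matrix.mul_apply, Fin.sum_univ_two, hu]
      · field_simp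
        ring
    rw [h3, map_mul, map_mul] at h2
    have h4 : s i (Mult.lo u) = (s i (Mult.up (-u⁻¹)))⁻¹ * (s i (Mult.up (-u⁻¹ + tr g * u⁻¹)))⁻¹ := by
      rw [eq_mul_inv_iff_mul_eq]
      exact eq_inv_of_mul_eq_one_right (by rw [← mul_assoc]; exact h2)
    have h5 : ∀ a, s i (Mult.up a) ∈ RGD.B cs h T X := fun a =>
      RGD.X_le_B (isRoot_sr _ _ i) (sr_nonneg i) (C.mem_up i a)
    rw [h4]
    exact mul_mem (inv_mem (h5 _)) (inv_mem (h5 _))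

/-- the order of an element of `B` -/
theorem orderOf_B [Finite Y] (R : RGD cs h p T n X) {b : Y} (hb : b ∈ RGD.B cs h T X) :
    ∃ k, b ^ (Nat.card T * p ^ k) = 1 := by
  obtain ⟨t, ht, u, hu, e⟩ := R.mem_B.1 hb
  have hN : ∀ m : ℕ, ∃ v ∈ RGD.Sup X (RGD.Pos cs h), b ^ m = t ^ m * v := by
    intro m
    induction m with
    | zero => exact ⟨1, one_mem _, by rw [pow_zero, pow_zero, mul_one]⟩
    | succ m ih =>
      obtain ⟨v, hv, e1⟩ := ih
      refine ⟨t⁻¹ * v * t * u, mul_mem ?_ hu, ?_⟩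
      · have h2 := (Subgroup.mem_normalizer_iff.1 (R.T_le_normalizer_U (inv_mem ht)) v).1 hv
        rwa [inv_inv] at h2
      · rw [pow_succ, e1, e, pow_succ]
        group
  obtain ⟨v, hv, e1⟩ := hN (Nat.card T)
  have ht1 : t ^ Nat.card T = 1 := by
    have := pow_card_eq_one' (x := (⟨t, ht⟩ : T))
    exact congrArg Subtype.val this
  rw [ht1, one_mul] at e1
  obtain ⟨k, hk⟩ := R.isPGroup_Upos ⟨v, hv⟩
  refine ⟨k, ?_⟩
  rw [pow_mul, e1]
  exact congrArg Subtype.val hk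

end

/-! ### Not in `B` -/

section

variable {K : Type u} [Field K] [Fintype K] {φ : K →+* K} {q : ℕ}

theorem card_T (hq : IsPrimePow q) (hK : Fintype.card K = q ^ 3) (hφ : ∀ x, φ x = x ^ q) :
    Nat.card (T K q) = (q - 1) * (q ^ 3 - 1) := by
  rw [← D4H1.card_H1 hq hK hφ]
  exact Nat.card_congr (Subgroup.subgroupOfEquivOfLe inf_le_right).toEquiv

/-- **no element of order divisible by an odd prime divisor of `q³ + 1` lies in `B`** -/
theorem notB (hq : IsPrimePow q) (hK : Fintype.card K = q ^ 3) (hφ : ∀ x, φ x = x ^ q) {r : ℕ} (hr : r.Prime)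
    (hr2 : r ≠ 2) (hd : r ∣ q ^ 3 + 1) {y : ↥(twistedD4 K q)} (hy : r ∣ orderOf y) :
    y ∉ RGD.B CoxeterMatrix.G₂.toCoxeterSystem RGDTwD4.isCartan (T K q) (X φ q) := by
  intro hb
  obtain ⟨p, hpc⟩ := CharP.exists K
  have : Fact p.Prime := ⟨(CharP.char_is_prime_or_zero K p).resolve_right (CharP.char_ne_zero_of_finite K p)⟩
  have := finite_tw K q
  have R := RGDTwD4.rgd CoxeterMatrix.G₂.toCoxeterSystem hK hφ p
  have : Finite CoxeterMatrix.G₂.Group := Cfsg.Agent.Nodes.RGDFold.finite_W (hp := RGDTwD4.hp)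
    CoxeterMatrix.G₂.toCoxeterSystem RGDTwD4.isCartan RGDTwD4.foldData
  obtain ⟨k, hk⟩ := orderOf_B R hb
  have h1 := hy.trans (orderOf_dvd_of_pow_eq_one hk)
  rw [card_T hq hK hφ] at h1
  have h3 : r ∣ q ^ 3 - 1 → False := by
    intro h
    have h4 := Nat.dvd_sub hd h
    have h5 : 1 ≤ q ^ 3 := Nat.one_le_pow _ _ hq.pos
    have h6 : q ^ 3 + 1 - (q ^ 3 - 1) = 2 := by omega
    rw [h6] at h4
    exact hr2 ((Nat.prime_dvd_prime_iff_eq hr Nat.prime_two).1 h4)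
  rcases (hr.dvd_mul).1 h1 with h | h
  · rcases (hr.dvd_mul).1 h with h | h
    · exact h3 (h.trans (by simpa using Nat.sub_dvd_pow_sub_pow q 1 3))
    · exact h3 h
  · have h2 := (Nat.prime_dvd_prime_iff_eq hr (Fact.out (p := p.Prime))).1 (hr.dvd_of_dvd_pow h)
    subst h2
    -- `r` divides `q`
    have h4 : ((q ^ 3 : ℕ) : K) = 0 := by rw [← hK]; exact FiniteField.cast_card_eq_zero K
    have h5 := (CharP.cast_eq_zero_iff K r (q ^ 3)).1 h4
    have h6 := (Nat.dvd_add_right h5).1 hd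
    exact hr.one_lt.ne' (Nat.dvd_one.1 h6)

/-- no conjugate -/
theorem notB' (hq : IsPrimePow q) (hK : Fintype.card K = q ^ 3) (hφ : ∀ x, φ x = x ^ q) {r : ℕ} (hr : r.Prime)
    (hr2 : r ≠ 2) (hd : r ∣ q ^ 3 + 1) {y : ↥(twistedD4 K q)} (hy : r ∣ orderOf y) (g : ↥(twistedD4 K q)) :
    g⁻¹ * y * g ∉ RGD.B CoxeterMatrix.G₂.toCoxeterSystem RGDTwD4.isCartan (T K q) (X φ q) := by
  apply notB hq hK hφ hr hr2 hd
  have h1 : orderOf (g⁻¹ * y * g) = orderOf y := by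
    have h := (MulAut.conj g⁻¹).orderOf_eq y
    rw [MulAut.conj_apply, inv_inv] at h
    exact h
  rwa [h1]

end

/-! ### The element of the long node -/

section

variable {K : Type u} [Field K] [Fintype K] {φ : K →+* K} {q : ℕ} (hK : Fintype.card K = q ^ 3)
  (hφ : ∀ x, φ x = x ^ q)

theorem ch_one {r : ℕ} (hr : r < chevD4.nroots) :
    ch RGDTwD4.hp (vec chevD4 4 r) (1 : ↥(chevD4.group K)) = 1 := by
  apply ch_eq RGDTwD4.hp hr (one_mem _)
  group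

theorem zz_ne_one {w : (Fx φ ((rest 1).length + 1))ˣ} {v : K} (hv0 : v ≠ 0)
    (hw : ((w : Fx φ ((rest 1).length + 1)) : K) = v) (hn : v * (φ v * φ (φ v)) = 1) (hv2 : v ^ 2 ≠ 1) :
    zz hK hφ w ≠ 1 := by
  intro h1
  obtain ⟨r, hr, h2, h3⟩ : ∃ r < chevD4.nroots, chevD4.cartan 0 r - chevD4.cartan 3 r = 2 ∧
      chevD4.cartan 2 r - chevD4.cartan 3 r = 0 := by decide +kernel
  have h4 := ch_zz hK hφ hv0 hw hn hr
  rw [h1, map_one, ch_one hr, h2, h3, zpow_zero, mul_one] at h4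
  exact hv2 (by exact_mod_cast h4.symm)

/-- an odd prime divisor -/
theorem exists_odd_prime {n : ℕ} (hn : n ≠ 0) (h : ¬ ∃ k, n = 2 ^ k) : ∃ r, r.Prime ∧ r ≠ 2 ∧ r ∣ n := by
  by_contra hcon
  push Not at hcon
  apply h
  exact ⟨_, Nat.eq_prime_pow_of_unique_prime_dvd hn fun {r} hr hd => by
    by_contra h2
    exact hcon r hr h2 hd⟩

include hK hφ in
/-- **The element for `q + 1` not a power of `2`.** -/
theorem exists_y0 (hq : IsPrimePow q) (hq3 : 3 < q) (h2 : ¬ ∃ k, q + 1 = 2 ^ k) :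
    ∃ y : ↥(twistedD4 K q),
      y ∈ LJ CoxeterMatrix.G₂.toCoxeterSystem RGDTwD4.isCartan (T K q) (X φ q) {0} ∧
      (∃ r₁ r₂ : ℕ, r₁.Prime ∧ r₂.Prime ∧ r₁ ≠ r₂ ∧ orderOf y = r₁ * r₂ ∧ r₂ ≠ 2 ∧ r₂ ∣ q ^ 3 + 1 ∧
        r₁ ∣ q ^ 3 - 1) ∧
      NF (VNJ CoxeterMatrix.G₂.toCoxeterSystem RGDTwD4.isCartan (X φ q) {0}) y ∧
      NF (VJ CoxeterMatrix.G₂.toCoxeterSystem RGDTwD4.isCartan (X φ q) {0}) y ∧
      ∀ g : ↥(twistedD4 K q), g⁻¹ * y * g ∉
        RGD.B CoxeterMatrix.G₂.toCoxeterSystem RGDTwD4.isCartan (T K q) (X φ q) := by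
  obtain ⟨p, hpc⟩ := CharP.exists K
  have : Fact p.Prime := ⟨(CharP.char_is_prime_or_zero K p).resolve_right (CharP.char_ne_zero_of_finite K p)⟩
  have := finite_tw K q
  have R := RGDTwD4.rgd CoxeterMatrix.G₂.toCoxeterSystem hK hφ p
  have : Finite CoxeterMatrix.G₂.Group := Cfsg.Agent.Nodes.RGDFold.finite_W (hp := RGDTwD4.hp)
    CoxeterMatrix.G₂.toCoxeterSystem RGDTwD4.isCartan RGDTwD4.foldData
  obtain ⟨r₁, hr₁, h51, hd1⟩ := Cfsg.Agent.H446.TC6.exists_r1 hq.two_le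
  obtain ⟨r₂, hr₂, hr22, hd2⟩ := exists_odd_prime (n := q + 1) (by omega) h2
  have hdq : r₂ ∣ q ^ 3 + 1 := hd2.trans ⟨q ^ 2 - q + 1, by
    have h5 : q ≤ q ^ 2 := Nat.le_self_pow (by omega) q
    zify [h5]
    ring⟩
  have hdsq : r₂ ∣ q ^ 2 - 1 := by
    have h5 : q ^ 2 - 1 = (q + 1) * (q - 1) := by
      have := Nat.sq_sub_sq q 1
      simpa using this
    rw [h5]
    exact hd2.mul_right _
  have hd13 : r₁ ∣ q ^ 3 - 1 := by
    refine hd1.trans ⟨q - 1, ?_⟩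
    obtain ⟨n, rfl⟩ : ∃ n, q = n + 1 := ⟨q - 1, by omega⟩
    rw [Nat.add_sub_cancel]
    have : (n + 1) ^ 3 = ((n + 1) ^ 2 + (n + 1) + 1) * n + 1 := by ring
    rw [this, Nat.add_sub_cancel]
  have hne : r₁ ≠ r₂ := by
    rintro rfl
    exact Cfsg.Agent.H446.TC6.ne_of_dvd hq.two_le hr₁ h51 hd1 hdsq
  have hcop : Nat.Coprime r₁ r₂ := (Nat.coprime_primes hr₁ hr₂).2 hne
  have hodd : Odd r₁ := hr₁.odd_of_ne_two (by omega)
  have hodd2 : Odd r₂ := hr₂.odd_of_ne_two hr22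
  -- the elements
  have hF : Nat.card (Fx φ ((rest 0).length + 1)) = q := card_F0 hK hφ hq.one_lt
  let _ : Fintype (Fx φ ((rest 0).length + 1)) := Fintype.ofFinite _
  have hF' : Fintype.card (Fx φ ((rest 0).length + 1)) = q := by rw [← Nat.card_eq_fintype_card, hF]
  have := Fact.mk hr₂
  obtain ⟨s, hs⟩ := exists_prime_orderOf_dvd_card' (G := SL(2, Fx φ ((rest 0).length + 1))) r₂ (by
    rw [Cfsg.Agent.ClassicalGeometry.PSL2Basic.card_SL2, hF']; exact hdsq.mul_left _)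
  have hs1 : s ^ r₂ = 1 := by rw [← hs]; exact pow_orderOf_eq_one s
  have hs0 : s ≠ 1 := by
    rintro rfl
    rw [orderOf_one] at hs
    exact hr₂.one_lt.ne hs
  have hrF : ((r₂ : ℕ) : Fx φ ((rest 0).length + 1)) ≠ 0 := by
    intro h0
    obtain ⟨k, hk⟩ := hd2
    have hc : ((Fintype.card (Fx φ ((rest 0).length + 1)) : ℕ) : Fx φ ((rest 0).length + 1)) = 0 :=
      FiniteField.cast_card_eq_zero _
    rw [hF'] at hc
    have h2 := congrArg (Nat.cast (R := Fx φ ((rest 0).length + 1))) hk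
    rw [Nat.cast_add, hc, Nat.cast_mul, h0, zero_mul, Nat.cast_one, zero_add] at h2
    exact one_ne_zero h2
  have ht1 : tr s ^ 2 ≠ 4 := Cfsg.Agent.H932.TC6.SLElt.tr_ne_four hodd2 hrF hs1 hs0
  obtain ⟨v, hv, hv1, hn⟩ := exists_w hφ hK hr₁ hd1
  have hv0 : v ≠ 0 := by
    rintro rfl
    rw [zero_pow hr₁.ne_zero] at hv
    exact zero_ne_one hv
  have hv2 : v ^ 2 ≠ 1 := by
    intro h
    have h3 := pow_gcd_eq_one.2 ⟨hv, h⟩
    rw [(Nat.coprime_two_right.2 hodd : Nat.gcd r₁ 2 = 1), pow_one] at h3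
    exact hv1 h3
  obtain ⟨w, hw⟩ : ∃ w : (Fx φ ((rest 1).length + 1))ˣ, ((w : Fx φ ((rest 1).length + 1)) : K) = v := by
    refine ⟨Units.mk0 ⟨v, ?_⟩ ?_, rfl⟩
    · refine mem_Fx.2 ?_
      show φ (φ (φ v)) = v
      rw [hφ, hφ, hφ, ← pow_mul, ← pow_mul]
      have : q * (q * q) = Fintype.card K := by rw [hK]; ring
      rw [this, FiniteField.pow_card]
    · intro h0
      exact hv0 (congrArg Subtype.val h0)
  have hwr : w ^ r₁ = 1 := by
    apply Units.ext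
    apply Subtype.ext
    rw [Units.val_pow_eq_pow_val, SubmonoidClass.coe_pow, hw, hv]
    rfl
  have := Fact.mk hr₁
  have ho1 : orderOf (zz hK hφ w) = r₁ := orderOf_eq_prime (by rw [zz_pow, hwr, zz_one])
    (zz_ne_one hK hφ hv0 hw hn hv2)
  have ho2 : orderOf (P hK hφ 0 s) = r₂ := orderOf_eq_prime (by rw [← map_pow, hs1, map_one])
    (s_ne_one R (coordP hK hφ) 0 ht1)
  have hy : orderOf (zz hK hφ w * P hK hφ 0 s) = r₁ * r₂ := by
    rw [(commute_zz hK hφ hv0 hw hn s).orderOf_mul_eq_mul_orderOf_of_coprime (by rw [ho1, ho2]; exact hcop), ho1,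
      ho2]
  obtain ⟨n1, n2⟩ := nf hK hφ CoxeterMatrix.G₂.toCoxeterSystem hw hv1 hn hv hodd hcop hs1 ht1
  refine ⟨zz hK hφ w * P hK hφ 0 s, ?_, ⟨r₁, r₂, hr₁, hr₂, hne, hy, hr22, hdq, hd13⟩, n1, n2, fun g =>
    notB' hq hK hφ hr₂ hr22 hdq (by rw [hy]; exact dvd_mul_left _ _) g⟩
  exact mul_mem (T_le_LJ (tt_mem hK hφ 1 w)) (P0_mem_LJ hK hφ _ _ _)

end

end Cfsg.Agent.H932.TW.ExY
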