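import Cfsg.Agent.H932.TW.ExY

/-!
The element `y` of a Levi subgroup of `³D₄(q)` (S2452): the case where `q + 1` is a power of `2`, and the union.
-/

set_option autoImplicit false
set_option linter.unusedSectionVars false

namespace Cfsg.Agent.H932.TW.ExY1

open CoxeterSystem Cfsg.Agent.ChevalleyStructure.CoxeterGeom Cfsg.Agent.Tits.Roots Cfsg.Agent.Tits.Core
  Cfsg.Agent.Nodes Cfsg.Agent.Nodes.Reps Cfsg.Agent.Nodes.BNOf Cfsg.Agent.Nodes.RGDLib Cfsg.Agent.Nodes.Bruhat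
  Cfsg.Agent.Nodes.OppDec Cfsg.Agent.Nodes.LeviDec Cfsg.Agent.Nodes.StabComb Cfsg.Agent.Nodes.KindChev
  Cfsg.Agent.Nodes.ChevCls
  Cfsg.Agent.OddHalf.NI.ModelChev
  Cfsg.Agent.H162.GaussDec Cfsg.Agent.H162.GaussLevi
  Cfsg.Agent.H928.Ore.Frame Cfsg.Agent.H928.Ore.Fix
open Cfsg.Lie Cfsg.Agent.ChevalleyStructure Cfsg.Agent.ChevalleyStructure.Elts
  Cfsg.Agent.ChevalleyStructure.NPerm
  Cfsg.Agent.ChevalleyStructure.CoxeterGeomTypes Cfsg.Agent.Nodes.RGDChev Cfsg.Agent.KFacts.RgdChevCoord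
open Cfsg.Agent.Nodes.RGDTwGen Cfsg.Agent.Nodes.RGDFold Cfsg.Agent.Nodes.RGDTwD4
open Cfsg.Agent.Nodes.RGDFoldSL (Fx mem_Fx)
open Cfsg.Agent.ChevalleyStructure.TwistedU Cfsg.Agent.ChevalleyStructure.TwistedFix
open Cfsg.Agent.ChevalleyStructure.SL2Hom (up lo mem_closure_SL2)
open Cfsg.Agent.Nodes.RGDTwNode.D4 (nodeOK eps_one rest)
open Cfsg.Agent.Ree.PSLTori (tr)
open Cfsg.Agent.OddHalf.NI
open Cfsg.Agent.H874.War.TwD4 Cfsg.Agent.H932.TC6.BaseD4 Cfsg.Agent.H932.TC6.TwD4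
  Cfsg.Agent.H932.TW.NFs Cfsg.Agent.H932.TW.ExY
open scoped MatrixGroups

universe u

section

variable {K : Type u} [Field K] [Fintype K] {φ : K →+* K} {q : ℕ} (hK : Fintype.card K = q ^ 3)
  (hφ : ∀ x, φ x = x ^ q)

theorem P1_mem_LJ {W : Type*} [Group W] (cs : CoxeterSystem CoxeterMatrix.G₂ W) (T' : Subgroup ↥(twistedD4 K q))
    (g : SL(2, Fx φ ((rest 1).length + 1))) : P hK hφ 1 g ∈ LJ cs RGDTwD4.isCartan T' (X φ q) {1} := by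
  have C := coordP hK hφ
  have : Subgroup.closure (Set.range (up (F := Fx φ ((rest 1).length + 1))) ∪
      Set.range (lo (F := Fx φ ((rest 1).length + 1)))) ≤
      (LJ cs RGDTwD4.isCartan T' (X φ q) {1}).comap (P hK hφ 1) := by
    rw [Subgroup.closure_le]
    have hs : ∀ k : Fin 2, k ∉ ({1} : Set (Fin 2)) → (sr (1 : Fin 2)) k = 0 := fun k hk => sr_ne hk
    rintro _ (⟨a, rfl⟩ | ⟨a, rfl⟩)
    · exact X_le_LJ (x := sr 1) ⟨isRoot_sr _ _ 1, hs⟩ (C.mem_up 1 a)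
    · exact X_le_LJ (x := -sr 1) ⟨(isRoot_sr _ _ 1).neg, fun k hk => by
        rw [Pi.neg_apply, hs k hk, neg_zero]⟩ (C.mem_lo 1 a)
  exact this (mem_closure_SL2 g)

include hK hφ in
theorem mem_F1 (x : K) : x ∈ Fx φ ((rest 1).length + 1) := by
  refine mem_Fx.2 ?_
  show φ (φ (φ x)) = x
  rw [hφ, hφ, hφ, ← pow_mul, ← pow_mul]
  have : q * (q * q) = Fintype.card K := by rw [hK]; ring
  rw [this, FiniteField.pow_card]

include hK hφ in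
theorem card_F1 : Nat.card (Fx φ ((rest 1).length + 1)) = q ^ 3 := by
  rw [← hK, ← Nat.card_eq_fintype_card]
  exact Nat.card_congr ⟨Subtype.val, fun x => ⟨x, mem_F1 hK hφ x⟩, fun _ => rfl, fun _ => rfl⟩

theorem tt_one : tt hK hφ (1 : (Fx φ ((rest 0).length + 1))ˣ) (1 : (Fx φ ((rest 1).length + 1))ˣ) = 1 := by
  have h := tt_pow hK hφ (1 : (Fx φ ((rest 0).length + 1))ˣ) (1 : (Fx φ ((rest 1).length + 1))ˣ) 0
  rw [pow_zero, pow_zero, pow_zero] at h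
  exact h.symm

include hK hφ in
/-- **The element for `q + 1` a power of `2`.** -/
theorem exists_y1 (hq : IsPrimePow q) (hq3 : 3 < q) (h2 : ∃ k, q + 1 = 2 ^ k) :
    ∃ y : ↥(twistedD4 K q),
      y ∈ LJ CoxeterMatrix.G₂.toCoxeterSystem RGDTwD4.isCartan (T K q) (X φ q) {1} ∧
      (∃ r₁ r₂ : ℕ, r₁.Prime ∧ r₂.Prime ∧ r₁ ≠ r₂ ∧ orderOf y = r₁ * r₂ ∧ r₂ ≠ 2 ∧ r₂ ∣ q ^ 3 + 1 ∧
        r₁ ∣ q ^ 3 - 1) ∧
      NF (VNJ CoxeterMatrix.G₂.toCoxeterSystem RGDTwD4.isCartan (X φ q) {1}) y ∧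
      NF (VJ CoxeterMatrix.G₂.toCoxeterSystem RGDTwD4.isCartan (X φ q) {1}) y ∧
      ∀ g : ↥(twistedD4 K q), g⁻¹ * y * g ∉
        RGD.B CoxeterMatrix.G₂.toCoxeterSystem RGDTwD4.isCartan (T K q) (X φ q) := by
  obtain ⟨p, hpc⟩ := CharP.exists K
  have : Fact p.Prime := ⟨(CharP.char_is_prime_or_zero K p).resolve_right (CharP.char_ne_zero_of_finite K p)⟩
  have := finite_tw K q
  have R := RGDTwD4.rgd CoxeterMatrix.G₂.toCoxeterSystem hK hφ p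
  have : Finite CoxeterMatrix.G₂.Group := Cfsg.Agent.Nodes.RGDFold.finite_W (hp := RGDTwD4.hp)
    CoxeterMatrix.G₂.toCoxeterSystem RGDTwD4.isCartan RGDTwD4.foldData
  -- the primes
  obtain ⟨r₁, hr₁, hr12, hd1⟩ := exists_odd_prime (n := q - 1) (by omega) (by
    rintro ⟨m, hm⟩
    obtain ⟨k, hk⟩ := h2
    have hk2 : 2 ≤ k := by
      by_contra h
      have : 2 ^ k ≤ 2 ^ 1 := Nat.pow_le_pow_right (by norm_num) (by omega)
      omega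
    rcases Nat.lt_or_ge m 2 with h | h
    · have : 2 ^ m ≤ 2 ^ 1 := Nat.pow_le_pow_right (by norm_num) (by omega)
      omega
    · have e1 : 4 ∣ 2 ^ m := ⟨2 ^ (m - 2), by rw [show (4 : ℕ) = 2 ^ 2 by norm_num, ← pow_add]; congr 1; omega⟩
      have e2 : 4 ∣ 2 ^ k := ⟨2 ^ (k - 2), by rw [show (4 : ℕ) = 2 ^ 2 by norm_num, ← pow_add]; congr 1; omega⟩
      rw [← hm] at e1
      rw [← hk] at e2
      omega)
  obtain ⟨n, rfl⟩ : ∃ n, q = n + 1 := ⟨q - 1, by omega⟩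
  obtain ⟨r₂, hr₂, hd2⟩ := Nat.exists_prime_and_dvd (n := n * (n + 1) + 1) (by nlinarith)
  have hr22 : r₂ ≠ 2 := by
    rintro rfl
    have h5 : 2 ∣ n * (n + 1) := even_iff_two_dvd.1 (Nat.even_mul_succ_self n)
    omega
  have hdq : r₂ ∣ (n + 1) ^ 3 + 1 := hd2.trans ⟨n + 2, by ring⟩
  have hd13 : r₁ ∣ (n + 1) ^ 3 - 1 := by
    rw [Nat.add_sub_cancel] at hd1
    refine hd1.trans ⟨n ^ 2 + 3 * n + 3, ?_⟩
    have : (n + 1) ^ 3 = n * (n ^ 2 + 3 * n + 3) + 1 := by ring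
    rw [this, Nat.add_sub_cancel]
  have hne : r₁ ≠ r₂ := by
    rintro rfl
    have h4 := Nat.dvd_sub hdq hd13
    have h5 : 1 ≤ (n + 1) ^ 3 := Nat.one_le_pow _ _ hq.pos
    have h6 : (n + 1) ^ 3 + 1 - ((n + 1) ^ 3 - 1) = 2 := by omega
    rw [h6] at h4
    exact hr22 ((Nat.prime_dvd_prime_iff_eq hr₁ Nat.prime_two).1 h4)
  have hcop : Nat.Coprime r₁ r₂ := (Nat.coprime_primes hr₁ hr₂).2 hne
  have hodd2 : Odd r₂ := hr₂.odd_of_ne_two hr22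
  -- the elements
  have hF := card_F1 hK hφ
  let _ : Fintype (Fx φ ((rest 1).length + 1)) := Fintype.ofFinite _
  have hF' : Fintype.card (Fx φ ((rest 1).length + 1)) = (n + 1) ^ 3 := by rw [← Nat.card_eq_fintype_card, hF]
  have := Fact.mk hr₂
  have hdsq : r₂ ∣ ((n + 1) ^ 3) ^ 2 - 1 := by
    have h5 : ((n + 1) ^ 3) ^ 2 - 1 = ((n + 1) ^ 3 + 1) * ((n + 1) ^ 3 - 1) := by
      have := Nat.sq_sub_sq ((n + 1) ^ 3) 1
      simpa using this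
    rw [h5]
    exact hdq.mul_right _
  obtain ⟨s, hs⟩ := exists_prime_orderOf_dvd_card' (G := SL(2, Fx φ ((rest 1).length + 1))) r₂ (by
    rw [Cfsg.Agent.ClassicalGeometry.PSL2Basic.card_SL2, hF']; exact hdsq.mul_left _)
  have hs1 : s ^ r₂ = 1 := by rw [← hs]; exact pow_orderOf_eq_one s
  have hs0 : s ≠ 1 := by
    rintro rfl
    rw [orderOf_one] at hs
    exact hr₂.one_lt.ne hs
  have hrF : ((r₂ : ℕ) : Fx φ ((rest 1).length + 1)) ≠ 0 := by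
    intro h0
    obtain ⟨k, hk⟩ := hdq
    have hc : ((Fintype.card (Fx φ ((rest 1).length + 1)) : ℕ) : Fx φ ((rest 1).length + 1)) = 0 :=
      FiniteField.cast_card_eq_zero _
    rw [hF'] at hc
    have h2 := congrArg (Nat.cast (R := Fx φ ((rest 1).length + 1))) hk
    rw [Nat.cast_add, hc, Nat.cast_mul, h0, zero_mul, Nat.cast_one, zero_add] at h2
    exact one_ne_zero h2
  have ht1 : tr s ^ 2 ≠ 4 := Cfsg.Agent.H932.TC6.SLElt.tr_ne_four hodd2 hrF hs1 hs0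
  -- the central element
  have := Fact.mk hr₁
  obtain ⟨c, hc⟩ := exists_prime_orderOf_dvd_card' (G := Kˣ) r₁ (by
    rw [Nat.card_units, Nat.card_eq_fintype_card, hK]; exact hd13)
  have hc1 : (c : K) ^ r₁ = 1 := by rw [← Units.val_pow_eq_pow_val, ← hc, pow_orderOf_eq_one, Units.val_one]
  have hcφ : φ (c : K) = c := by
    rw [hφ, pow_succ]
    obtain ⟨k, hk⟩ := hd1
    rw [Nat.add_sub_cancel] at hk
    rw [hk, pow_mul, hc1, one_pow, one_mul]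
  have hc2 : (((c : K)) ^ r₂) ^ 2 ≠ 1 := by
    rw [← pow_mul, ← Units.val_pow_eq_pow_val, ne_eq, Units.val_eq_one]
    intro h
    have h3 := orderOf_dvd_of_pow_eq_one h
    rw [hc] at h3
    rcases (hr₁.dvd_mul).1 h3 with h4 | h4
    · exact hne ((Nat.prime_dvd_prime_iff_eq hr₁ hr₂).1 h4)
    · exact hr12 ((Nat.prime_dvd_prime_iff_eq hr₁ Nat.prime_two).1 h4)
  obtain ⟨a, ha⟩ : ∃ a : (Fx φ ((rest 0).length + 1))ˣ, ((a : Fx φ ((rest 0).length + 1)) : K) = (c : K) ^ 2 := by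
    refine ⟨Units.mk0 ⟨(c : K) ^ 2, ?_⟩ ?_, rfl⟩
    · refine mem_Fx.2 ?_
      show φ ((c : K) ^ 2) = (c : K) ^ 2
      rw [map_pow, hcφ]
    · intro h0
      exact pow_ne_zero 2 c.ne_zero (congrArg Subtype.val h0)
  obtain ⟨b, hb⟩ : ∃ b : (Fx φ ((rest 1).length + 1))ˣ, ((b : Fx φ ((rest 1).length + 1)) : K) = (c : K) :=
    ⟨Units.mk0 ⟨(c : K), mem_F1 hK hφ _⟩ (fun h0 => c.ne_zero (congrArg Subtype.val h0)), rfl⟩
  have har : a ^ r₁ = 1 := by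
    apply Units.ext
    apply Subtype.ext
    rw [Units.val_pow_eq_pow_val, SubmonoidClass.coe_pow, ha, ← pow_mul, mul_comm, pow_mul, hc1, one_pow]
    rfl
  have hbr : b ^ r₁ = 1 := by
    apply Units.ext
    apply Subtype.ext
    rw [Units.val_pow_eq_pow_val, SubmonoidClass.coe_pow, hb, hc1]
    rfl
  have ho1 : orderOf (tt hK hφ a b) = r₁ := orderOf_eq_prime (by rw [tt_pow, har, hbr, tt_one]) (by
    intro h1
    obtain ⟨r, hr, h2⟩ : ∃ r < chevD4.nroots, vec chevD4 4 r 1 = 1 := by decide +kernel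
    have h4 := ch_zc hK hφ c.ne_zero hcφ ha hb hr
    rw [h1, map_one, ch_one hr, h2, zpow_one] at h4
    have h5 : c = 1 := Units.ext h4.symm
    rw [h5, orderOf_one] at hc
    exact hr₁.one_lt.ne hc)
  have ho2 : orderOf (P hK hφ 1 s) = r₂ := orderOf_eq_prime (by rw [← map_pow, hs1, map_one])
    (s_ne_one R (coordP hK hφ) 1 ht1)
  have hy : orderOf (tt hK hφ a b * P hK hφ 1 s) = r₁ * r₂ := by
    rw [(commute_zc hK hφ c.ne_zero hcφ ha hb s).orderOf_mul_eq_mul_orderOf_of_coprime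
      (by rw [ho1, ho2]; exact hcop), ho1, ho2]
  obtain ⟨n1, n2⟩ := nf hK hφ CoxeterMatrix.G₂.toCoxeterSystem c.ne_zero hcφ ha hb hc2 hs1
  refine ⟨tt hK hφ a b * P hK hφ 1 s, ?_, ⟨r₁, r₂, hr₁, hr₂, hne, hy, hr22, hdq, hd13⟩, n1, n2, fun g =>
    notB' hq hK hφ hr₂ hr22 hdq (by rw [hy]; exact dvd_mul_left _ _) g⟩
  exact mul_mem (T_le_LJ (tt_mem hK hφ a b)) (P1_mem_LJ hK hφ _ _ _)

include hK hφ in
/-- the element `y`, with the divisibilities -/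
theorem exists_yr (hq : IsPrimePow q) (hq3 : 3 < q) : ∃ (i : Fin 2) (y : ↥(twistedD4 K q)),
      y ∈ LJ CoxeterMatrix.G₂.toCoxeterSystem RGDTwD4.isCartan (T K q) (X φ q) {i} ∧
      (∃ r₁ r₂ : ℕ, r₁.Prime ∧ r₂.Prime ∧ r₁ ≠ r₂ ∧ orderOf y = r₁ * r₂ ∧ r₂ ≠ 2 ∧ r₂ ∣ q ^ 3 + 1 ∧
        r₁ ∣ q ^ 3 - 1) ∧
      NF (VNJ CoxeterMatrix.G₂.toCoxeterSystem RGDTwD4.isCartan (X φ q) {i}) y ∧
      NF (VJ CoxeterMatrix.G₂.toCoxeterSystem RGDTwD4.isCartan (X φ q) {i}) y ∧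
      ∀ g : ↥(twistedD4 K q), g⁻¹ * y * g ∉
        RGD.B CoxeterMatrix.G₂.toCoxeterSystem RGDTwD4.isCartan (T K q) (X φ q) := by
  by_cases h : ∃ k, q + 1 = 2 ^ k
  · exact ⟨1, exists_y1 hK hφ hq hq3 h⟩
  · exact ⟨0, exists_y0 hK hφ hq hq3 h⟩

include hK hφ in
/-- **The element `y`.** -/
theorem exists_y (hq : IsPrimePow q) (hq3 : 3 < q) : ∃ (i : Fin 2) (y : ↥(twistedD4 K q)),
      y ∈ LJ CoxeterMatrix.G₂.toCoxeterSystem RGDTwD4.isCartan (T K q) (X φ q) {i} ∧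
      (∃ r₁ r₂ : ℕ, r₁.Prime ∧ r₂.Prime ∧ r₁ ≠ r₂ ∧ orderOf y = r₁ * r₂ ∧ r₂ ≠ 2 ∧ r₂ ∣ q ^ 3 + 1) ∧
      NF (VNJ CoxeterMatrix.G₂.toCoxeterSystem RGDTwD4.isCartan (X φ q) {i}) y ∧
      NF (VJ CoxeterMatrix.G₂.toCoxeterSystem RGDTwD4.isCartan (X φ q) {i}) y ∧
      ∀ g : ↥(twistedD4 K q), g⁻¹ * y * g ∉
        RGD.B CoxeterMatrix.G₂.toCoxeterSystem RGDTwD4.isCartan (T K q) (X φ q) := by
  obtain ⟨i, y, h1, ⟨r₁, r₂, a1, a2, a3, a4, a5, a6, a7⟩, h3⟩ := exists_yr hK hφ hq hq3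
  exact ⟨i, y, h1, ⟨r₁, r₂, a1, a2, a3, a4, a5, a6⟩, h3⟩

include hK hφ in
/-- the order of `y` is prime to `p` -/
theorem exists_yp {p : ℕ} (hp : p.Prime) [CharP K p] (hq : IsPrimePow q) (hq3 : 3 < q) :
    ∃ (i : Fin 2) (y : ↥(twistedD4 K q)),
      y ∈ LJ CoxeterMatrix.G₂.toCoxeterSystem RGDTwD4.isCartan (T K q) (X φ q) {i} ∧
      (∃ r₁ r₂ : ℕ, r₁.Prime ∧ r₂.Prime ∧ r₁ ≠ r₂ ∧ orderOf y = r₁ * r₂ ∧ r₂ ≠ 2 ∧ r₂ ∣ q ^ 3 + 1) ∧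
      ¬ p ∣ orderOf y ∧
      NF (VNJ CoxeterMatrix.G₂.toCoxeterSystem RGDTwD4.isCartan (X φ q) {i}) y ∧
      NF (VJ CoxeterMatrix.G₂.toCoxeterSystem RGDTwD4.isCartan (X φ q) {i}) y ∧
      ∀ g : ↥(twistedD4 K q), g⁻¹ * y * g ∉
        RGD.B CoxeterMatrix.G₂.toCoxeterSystem RGDTwD4.isCartan (T K q) (X φ q) := by
  obtain ⟨i, y, h1, ⟨r₁, r₂, a1, a2, a3, a4, a5, a6, a7⟩, h3⟩ := exists_yr hK hφ hq hq3
  refine ⟨i, y, h1, ⟨r₁, r₂, a1, a2, a3, a4, a5, a6⟩, ?_, h3⟩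
  have hc : ((q ^ 3 : ℕ) : K) = 0 := by rw [← hK]; exact FiniteField.cast_card_eq_zero K
  have hpq : p ∣ q ^ 3 := (CharP.cast_eq_zero_iff K p (q ^ 3)).1 hc
  have h5 : 1 ≤ q ^ 3 := Nat.one_le_pow _ _ hq.pos
  rw [a4, hp.dvd_mul]
  rintro (h | h)
  · have h6 := h.trans a7
    have h7 := Nat.dvd_sub hpq h6
    rw [show q ^ 3 - (q ^ 3 - 1) = 1 by omega] at h7
    exact hp.one_lt.ne' (Nat.dvd_one.1 h7)
  · have h7 := (Nat.dvd_add_right hpq).1 (h.trans a6)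
    exact hp.one_lt.ne' (Nat.dvd_one.1 h7)

end

end Cfsg.Agent.H932.TW.ExY1
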