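import Cfsg.Agent.H453.TW.Glue
import Cfsg.Agent.H453.TW.Exc
import Cfsg.Agent.H911.TW.Cnt
import Cfsg.Agent.H911.TW.Cent
import Cfsg.Agent.H442.TW.PelD4
import Cfsg.Agent.H932.TW.ExY1
import Cfsg.Agent.H279.OZ.Kaw
import Cfsg.Agent.H705.Dl.PsRgd
import Cfsg.Agent.S0190

/-!
# The row `³D₄(q)`, `q ≥ 4`, of S2452: the assembly of line B (helper932)
-/

set_option autoImplicit false
set_option linter.unusedSectionVars false

namespace Cfsg.Agent.H932.TW.RowB

open CoxeterSystem Cfsg.Agent.ChevalleyStructure.CoxeterGeom Cfsg.Agent.Tits.Roots Cfsg.Agent.Tits.Core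
  Cfsg.Agent.Nodes Cfsg.Agent.Nodes.Reps Cfsg.Agent.Nodes.BNOf Cfsg.Agent.Nodes.RGDLib Cfsg.Agent.Nodes.Bruhat
  Cfsg.Agent.Nodes.OppDec Cfsg.Agent.Nodes.LeviDec Cfsg.Agent.Nodes.StabComb
  Cfsg.Agent.H928.Ore.Frame
open Cfsg Cfsg.Lie Cfsg.Agent.ChevalleyStructure Cfsg.Agent.Nodes.RGDTwD4
open Cfsg.Agent.Characters Cfsg.Agent.Characters.Core Cfsg.Agent.H678.CCExact Cfsg.Agent.H686.CharKit
  Cfsg.Agent.Characters.CCCounting Cfsg.Agent.Characters.CCBasic Cfsg.Agent.H453.TW Cfsg.Agent.H730.OZ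
open scoped ComplexConjugate

universe u

section

variable {G : Type u} [Group G] [Fintype G]

theorem pc_eq (H : Subgroup G) : pc H = indFun H 1 := by
  have h := S0190.result (G := G) (G ⧸ H) (QuotientGroup.mk 1)
  have key : ∀ K : Subgroup G, K = H → indFun K (fun _ => (1 : ℂ)) = indFun H (fun _ => 1) := by
    rintro _ rfl
    rfl
  have h2 : MulAction.stabilizer G (QuotientGroup.mk (1 : G) : G ⧸ H) = H := by
    ext g
    rw [MulAction.mem_stabilizer_iff]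
    constructor
    · intro h
      have h3 : (QuotientGroup.mk (g * 1) : G ⧸ H) = QuotientGroup.mk 1 := h
      rw [QuotientGroup.eq] at h3
      have := inv_mem h3
      simpa using this
    · intro h
      show (QuotientGroup.mk (g * 1) : G ⧸ H) = QuotientGroup.mk 1
      rw [QuotientGroup.eq]
      simpa using inv_mem h
  exact h.trans (key _ h2)

/-- the multiplicities are real -/
theorem inner_swap [Fintype (IrrCharacter G)] (H : Subgroup G) (χ : IrrCharacter G) :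
    classInner (χ : G → ℂ) (pc H) = classInner (pc H) χ := by
  classical
  obtain ⟨m, -, hm⟩ := exists_mult (pc_isCharacter H)
  rw [← classInner_conj_symm, hm]
  exact Complex.conj_natCast _

end

theorem card_W : Nat.card CoxeterMatrix.G₂.Group = 12 := by
  rw [Nat.card_congr (H911.TW.g2Equiv CoxeterMatrix.G₂.toCoxeterSystem).toEquiv, DihedralGroup.nat_card]

/-- the form of (HC1) -/
def HC1 {Y : Type u} [Group Y] [Fintype Y] (P B : Subgroup Y) (y : Y) : Prop :=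
  ∀ χ : Y → ℂ, IsIrrCharacter Y χ → classInner χ (indFun B 1) ≠ 0 →
    χ y = 2 * classInner χ (indFun P 1) - classInner χ (indFun B 1)

section

variable {K : Type} [Field K] [Fintype K] {φ : K →+* K} {q : ℕ}

/-- **The row, from (HC1).** -/
theorem row_pre (hq : IsPrimePow q) (hK : Fintype.card K = q ^ 3) (hφ : ∀ x, φ x = x ^ q) (hq3 : 3 < q)
    {p : ℕ} [hp : Fact p.Prime] [CharP K p] [Fintype ↥(twistedD4 K q)]
    (h1 : ∀ (i : Fin 2) (y : ↥(twistedD4 K q)),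
      y ∈ PJ CoxeterMatrix.G₂.toCoxeterSystem isCartan (T K q) (X φ q) {i} →
      (∀ v ∈ VJ CoxeterMatrix.G₂.toCoxeterSystem isCartan (X φ q) {i}, y * v * y⁻¹ = v → v = 1) →
      (∀ g ∈ PJ CoxeterMatrix.G₂.toCoxeterSystem isCartan (T K q) (X φ q) {i},
        g * y * g⁻¹ ∉ PJ CoxeterMatrix.G₂.toCoxeterSystem isCartan (T K q) (X φ q) ∅) →
      HC1 (PJ CoxeterMatrix.G₂.toCoxeterSystem isCartan (T K q) (X φ q) {i})
        (PJ CoxeterMatrix.G₂.toCoxeterSystem isCartan (T K q) (X φ q) ∅) y) :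
    H588.TW.T52 ↥(twistedD4 K q) := by
  classical
  have hpp : p.Prime := Fact.out
  have R := RGDTwD4.rgd CoxeterMatrix.G₂.toCoxeterSystem hK hφ p
  have : Finite CoxeterMatrix.G₂.Group := Cfsg.Agent.Nodes.RGDFold.finite_W (hp := RGDTwD4.hp)
    CoxeterMatrix.G₂.toCoxeterSystem RGDTwD4.isCartan RGDTwD4.foldData
  have hGG : GG CoxeterMatrix.G₂.toCoxeterSystem isCartan (T K q) (X φ q) = ⊤ := by
    rw [eq_top_iff, ← RGDTwD4.G1_eq_top CoxeterMatrix.G₂.toCoxeterSystem hK hφ]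
    exact le_sup_right
  have hL : IsLieTypeChar p ↥(twistedD4 K q) :=
    Or.inr (Or.inr (Or.inr (Or.inr (Or.inr (Or.inr (Or.inr (Or.inl
      ⟨K, inferInstance, inferInstance, inferInstance, q, hq, Or.inr ⟨hK, ⟨MulEquiv.refl _⟩⟩⟩)))))))
  have hKaw : Kaw p ↥(twistedD4 K q) := Cfsg.Agent.H279.OZ.kaw_of_hasRGD hpp (RGDTwD4.hasRGD hq hK p)
  obtain ⟨A, hA, hlen, hN, hNz, hAP, hAc, x, hx, hx1, hxp⟩ := H911.TW.D4.exists_torus_all hq hK hφ (by omega)
  obtain ⟨i, y, hyL, ⟨r₁, r₂, hr₁, hr₂, hr₁₂, hy, -, -⟩, hpy, -, hNF, hB⟩ :=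
    ExY1.exists_yp hK hφ hpp hq hq3
  obtain ⟨f, hf, hqf⟩ := H442.TW.PelD4.exists_pow hK hq (p := p)
  have hyP : y ∈ PJ CoxeterMatrix.G₂.toCoxeterSystem isCartan (T K q) (X φ q) {i} := LJ_le_PJ hyL
  have hfix : ∀ v ∈ VJ CoxeterMatrix.G₂.toCoxeterSystem isCartan (X φ q) {i}, y * v * y⁻¹ = v → v = 1 := hNF
  have hnB : ∀ g ∈ PJ CoxeterMatrix.G₂.toCoxeterSystem isCartan (T K q) (X φ q) {i},
        g * y * g⁻¹ ∉ PJ CoxeterMatrix.G₂.toCoxeterSystem isCartan (T K q) (X φ q) ∅ := by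
    intro g _ h
    rw [Cfsg.Agent.H705.Dl.PsRgd.PJ_empty R] at h
    exact hB g⁻¹ (by rwa [inv_inv])
  have hne : ∀ j : Fin 2, ({j} : Set (Fin 2)) ≠ Set.univ := by
    intro j h
    have h3 : ∀ k : Fin 2, k = j := fun k => by
      have : k ∈ ({j} : Set (Fin 2)) := by rw [h]; trivial
      exact this
    have h4 := (h3 0).trans (h3 1).symm
    exact absurd h4 (by decide)
  have hne0 : (∅ : Set (Fin 2)) ≠ Set.univ := Set.empty_ne_univ
  refine glue (P₁ := PJ CoxeterMatrix.G₂.toCoxeterSystem isCartan (T K q) (X φ q) {0})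
    (P₂ := PJ CoxeterMatrix.G₂.toCoxeterSystem isCartan (T K q) (X φ q) {1})
    (B := PJ CoxeterMatrix.G₂.toCoxeterSystem isCartan (T K q) (X φ q) ∅)
    (P := PJ CoxeterMatrix.G₂.toCoxeterSystem isCartan (T K q) (X φ q) {i})
    hL hKaw hA hlen hqf hf hq3 hNz (H442.TW.PelD4.factorization_p hK hq hqf)
    (H911.TW.inner_single_single R hGG 0) (H911.TW.inner_single_single R hGG 1) (H911.TW.inner_zero_one R hGG)
    (H911.TW.inner_empty_empty R hGG) (H911.TW.inner_empty_single R hGG 0) (H911.TW.inner_empty_single R hGG 1)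
    (H442.TW.PelD4.index0 hK hφ hq _) (H442.TW.PelD4.index1 hK hφ hq _)
    (H442.TW.PelD4.pel0 hK hφ hq _ (p := p)) (H442.TW.PelD4.pel1 hK hφ hq _ (p := p))
    (fun a ha ha1 g => ⟨hAP a ha ha1 _ (hne 0) g, hAP a ha ha1 _ (hne 1) g, hAP a ha ha1 _ hne0 g⟩)
    hx hxp (hAc x hx hx1 p f hpp hf.ne' hqf) hr₁ hr₂ hr₁₂ hy hpy ?_ ?_ ?_
  · fin_cases i
    · exact Or.inl rfl
    · exact Or.inr rfl
  · intro χ hχ
    have hfin := finite_irr (G := ↥(twistedD4 K q))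
    have : Fintype (IrrCharacter ↥(twistedD4 K q)) := Fintype.ofFinite _
    have h3 := h1 i y hyP hfix hnB χ χ.2
    rw [← pc_eq, ← pc_eq, inner_swap, inner_swap] at h3
    exact h3 hχ
  · intro _ s D hs ψ hψ
    refine exc_frame R hGG D ?_ (fun J hJ a ha ha1 g => hAP a ha ha1 J hJ g) (hne i) hyP hfix ψ hψ
    rw [card_W]
    exact hs

end

end Cfsg.Agent.H932.TW.RowB
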